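import Groth.Agent.GIT36.Quot.Desc
import Mathlib.AlgebraicGeometry.Morphisms.Separated
import Mathlib.AlgebraicGeometry.Morphisms.Immersion
import Mathlib.AlgebraicGeometry.Morphisms.UnderlyingMap

/-!
Point-set consequences of the axioms of a geometric quotient.
-/

set_option autoImplicit false

universe u

open CategoryTheory Limits MonoidalCategory CartesianMonoidalCategory AlgebraicGeometry Topology
  TopologicalSpace

namespace Groth.Agent.GIT36.Quot

/-- A section of a morphism to an affine scheme with one point has closed image. -/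
theorem isClosed_range_of_section {P T : Scheme.{u}} [IsAffine T] [Subsingleton T] (s : T ⟶ P)
    (q : P ⟶ T) (h : s ≫ q = 𝟙 T) : IsClosed (Set.range s) := by
  rw [← isOpen_compl_iff, isOpen_iff_forall_mem_open]
  intro z hz
  obtain ⟨U, hU, hzU, -⟩ := exists_isAffineOpen_mem_and_subset (U := ⊤) (x := z) trivial
  refine ⟨(U : Set P) \ Set.range s, fun x hx => hx.2, ?_, ⟨hzU, hz⟩⟩
  by_cases hs : Set.range s ⊆ (U : Set P)
  · have hr : Set.range s ⊆ Set.range U.ι := by rwa [Scheme.Opens.range_ι]
    let l := IsOpenImmersion.lift U.ι s hr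
    have hl : l ≫ U.ι = s := IsOpenImmersion.lift_fac _ _ _
    have : IsAffine U.toScheme := hU
    have : IsClosedImmersion (l ≫ U.ι ≫ q) := by
      rw [← Category.assoc, hl, h]; infer_instance
    have : IsClosedImmersion l := IsClosedImmersion.of_comp l (U.ι ≫ q)
    have e : (U : Set P) \ Set.range s = U.ι.base '' (Set.range l)ᶜ := by
      rw [← hl, Set.image_compl_eq_range_sdiff_image U.ι.isOpenEmbedding.injective,
        Scheme.Opens.range_ι, ← Set.range_comp]
      congr 2
    rw [e]
    exact U.ι.isOpenEmbedding.isOpenMap _ l.isClosedEmbedding.isClosed_range.isOpen_compl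
  · have e : (U : Set P) \ Set.range s = U := by
      refine Set.ext fun x => ⟨fun h => h.1, fun h => ⟨h, ?_⟩⟩
      rintro ⟨t, rfl⟩
      exact hs (by rintro _ ⟨t', rfl⟩; rwa [Subsingleton.elim t' t])
    rw [e]
    exact U.2

variable {S : Scheme.{u}} {G X Y : Over S} [GrpObj G] {a : AlgGrp.Action G X} {φ : X ⟶ Y}

@[reassoc (attr := simp)]
theorem PsiY_fst (hi : GIT.IsInvariant a φ) :
    GIT.PsiY a φ hi ≫ pullback.fst φ.left φ.left = a.act.left := pullback.lift_fst _ _ _

@[reassoc (attr := simp)]
theorem PsiY_snd (hi : GIT.IsInvariant a φ) :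
    GIT.PsiY a φ hi ≫ pullback.snd φ.left φ.left = (snd G X).left := pullback.lift_snd _ _ _

theorem psi_whiskerRight (hi : GIT.IsInvariant a φ) {T : Over S} (f : T ⟶ X) :
    GIT.psi a f ≫ (φ ▷ T) = snd G T ≫ lift (f ≫ φ) (𝟙 T) := by
  apply CartesianMonoidalCategory.hom_ext
  · rw [Category.assoc, whiskerRight_fst, GIT.psi, lift_fst_assoc, Category.assoc, hi,
      whiskerLeft_snd_assoc, Category.assoc, lift_fst]
  · rw [Category.assoc, whiskerRight_snd, GIT.psi, lift_snd, Category.assoc, lift_snd, Category.comp_id]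

theorem range_psi (h : GIT.IsGeomQuot a φ) {T : Over S} (f : T ⟶ X) :
    Set.range (GIT.psi a f).left.base =
      (φ ▷ T).left.base ⁻¹' Set.range (lift (f ≫ φ) (𝟙 T)).left.base := by
  refine Set.Subset.antisymm ?_ ?_
  · rintro _ ⟨r, rfl⟩
    refine ⟨(snd G T).left.base r, ?_⟩
    rw [← Scheme.Hom.comp_apply, ← Scheme.Hom.comp_apply, ← Over.comp_left, ← Over.comp_left,
      psi_whiskerRight h.inv]
  · rintro z ⟨t, ht⟩
    set s := lift (f ≫ φ) (𝟙 T)
    obtain ⟨w, hw1, -⟩ := Scheme.Pullback.exists_preimage_pullback z t ht.symm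
    let w₁ : pullback (φ ▷ T).left s.left ⟶ (X ⊗ T).left := pullback.fst _ _
    let w₂ : pullback (φ ▷ T).left s.left ⟶ T.left := pullback.snd _ _
    have hc : w₁ ≫ (φ ▷ T).left = w₂ ≫ s.left := pullback.condition
    have hcx : w₁ ≫ (fst X T).left ≫ φ.left = w₂ ≫ f.left ≫ φ.left := by
      have := congrArg (fun m => m ≫ (fst Y T).left) hc
      simp only [Category.assoc, ← Over.comp_left, whiskerRight_fst, s, lift_fst] at this
      simpa only [Over.comp_left] using this
    have hct : w₁ ≫ (snd X T).left = w₂ := by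
      have := congrArg (fun m => m ≫ (snd Y T).left) hc
      simp only [Category.assoc, ← Over.comp_left, whiskerRight_snd, s, lift_snd] at this
      simpa only [Over.id_left, Category.comp_id] using this
    let η : pullback (φ ▷ T).left s.left ⟶ pullback φ.left φ.left :=
      pullback.lift (w₁ ≫ (fst X T).left) (w₂ ≫ f.left) (by simpa using hcx)
    have : Surjective (GIT.PsiY a φ h.inv) := ⟨h.orbit⟩
    obtain ⟨v, hv⟩ := (pullback.snd (GIT.PsiY a φ h.inv) η).surjective w
    let p : pullback (GIT.PsiY a φ h.inv) η ⟶ (G ⊗ X).left := pullback.fst _ _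
    let p' := pullback.snd (GIT.PsiY a φ h.inv) η ≫ w₂
    have hsnd : p ≫ (snd G X).left = p' ≫ f.left := by
      have := congrArg (fun m => m ≫ pullback.snd φ.left φ.left)
        (pullback.condition (f := GIT.PsiY a φ h.inv) (g := η))
      simp only [Category.assoc, PsiY_snd, η, pullback.lift_snd] at this
      simpa [p, p', η] using this
    have hact : p ≫ a.act.left = pullback.snd (GIT.PsiY a φ h.inv) η ≫ w₁ ≫ (fst X T).left := by
      have := congrArg (fun m => m ≫ pullback.fst φ.left φ.left)
        (pullback.condition (f := GIT.PsiY a φ h.inv) (g := η))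
      simp only [Category.assoc, PsiY_fst, η, pullback.lift_fst] at this
      simpa [p, η] using this
    have hcond : (p ≫ (fst G X).left) ≫ G.hom = p' ≫ T.hom := by
      rw [Category.assoc, Over.w (fst G X), ← Over.w (snd G X), ← Over.w f,
        reassoc_of% hsnd]
    let v' : pullback (GIT.PsiY a φ h.inv) η ⟶ (G ⊗ T).left :=
      pullback.lift (p ≫ (fst G X).left) p' hcond
    have hv1 : v' ≫ (fst G T).left = p ≫ (fst G X).left := pullback.lift_fst _ _ _
    have hv2 : v' ≫ (snd G T).left = p' := pullback.lift_snd _ _ _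
    have hw : v' ≫ (G ◁ f).left = p := by
      apply Over.tensorObj_ext
      · change (v' ≫ (G ◁ f).left) ≫ (fst G X).left = p ≫ (fst G X).left
        rw [Category.assoc, ← Over.comp_left, whiskerLeft_fst, hv1]
      · change (v' ≫ (G ◁ f).left) ≫ (snd G X).left = p ≫ (snd G X).left
        rw [Category.assoc, ← Over.comp_left, whiskerLeft_snd, Over.comp_left, reassoc_of% hv2, hsnd]
    have key : v' ≫ (GIT.psi a f).left = pullback.snd (GIT.PsiY a φ h.inv) η ≫ w₁ := by
      apply Over.tensorObj_ext
      · change (v' ≫ (GIT.psi a f).left) ≫ (fst X T).left = (_ ≫ w₁) ≫ (fst X T).left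
        rw [Category.assoc, ← Over.comp_left, GIT.psi, lift_fst, Over.comp_left, reassoc_of% hw, hact,
          Category.assoc]
      · change (v' ≫ (GIT.psi a f).left) ≫ (snd X T).left = (_ ≫ w₁) ≫ (snd X T).left
        rw [Category.assoc, ← Over.comp_left, GIT.psi, lift_snd, hv2, Category.assoc, hct]
    refine ⟨v'.base v, ?_⟩
    rw [← Scheme.Hom.comp_apply, key, Scheme.Hom.comp_apply, hv]
    exact hw1

theorem isClosedAction_of_isGeomQuot (h : GIT.IsGeomQuot a φ) : GIT.IsClosedAction a := by
  intro Ω _ _ T e f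
  have : IsAffine T.left := IsAffine.of_isIso e.hom
  have : Subsingleton T.left := (Scheme.homeoOfIso e).injective.subsingleton
  rw [range_psi h f]
  refine (isClosed_range_of_section _ (snd Y T).left ?_).preimage
    (φ ▷ T).left.base.hom.continuous
  rw [← Over.comp_left, lift_snd, Over.id_left]

omit [GrpObj G] in
theorem isPullback_whiskerRight_left (A : Over S) {B C : Over S} (f : B ⟶ C) :
    IsPullback (f ▷ A).left (fst B A).left (fst C A).left f.left := by
  refine IsPullback.of_right (h₁₂ := (snd C A).left) (v₁₃ := A.hom) (h₂₂ := C.hom) ?_ ?_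
    (IsPullback.of_hasPullback C.hom A.hom).flip
  · rw [← Over.comp_left, whiskerRight_snd, Over.w f]
    exact (IsPullback.of_hasPullback B.hom A.hom).flip
  · rw [← Over.comp_left, ← Over.comp_left, whiskerRight_fst]

omit [GrpObj G] in
theorem isPullback_whiskerLeft_left (A : Over S) {B C : Over S} (f : B ⟶ C) :
    IsPullback (A ◁ f).left (snd A B).left (snd A C).left f.left := by
  refine IsPullback.of_right (h₁₂ := (fst A C).left) (v₁₃ := A.hom) (h₂₂ := C.hom) ?_ ?_
    (IsPullback.of_hasPullback A.hom C.hom)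
  · rw [← Over.comp_left, whiskerLeft_fst, Over.w f]
    exact IsPullback.of_hasPullback A.hom B.hom
  · rw [← Over.comp_left, ← Over.comp_left, whiskerLeft_snd]

omit [GrpObj G] in
theorem isQuotientMap_tensor (hq : GIT.IsUnivSubmersive φ.left) :
    IsQuotientMap (φ ▷ X ≫ Y ◁ φ).left.base := by
  have h1 : IsQuotientMap (φ ▷ X).left.base := hq _ _ _ (isPullback_whiskerRight_left X φ)
  have h2 : IsQuotientMap (Y ◁ φ).left.base := hq _ _ _ (isPullback_whiskerLeft_left Y φ)
  rw [Over.comp_left]
  exact h2.comp h1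

theorem range_psi_id (h : GIT.IsGeomQuot a φ) :
    Set.range (GIT.psi a (𝟙 X)).left.base =
      (φ ▷ X ≫ Y ◁ φ).left.base ⁻¹' Set.range (lift (𝟙 Y) (𝟙 Y)).left.base := by
  refine Set.Subset.antisymm ?_ ?_
  · rintro _ ⟨r, rfl⟩
    refine ⟨(snd G X ≫ φ).left.base r, ?_⟩
    rw [← Scheme.Hom.comp_apply, ← Scheme.Hom.comp_apply, ← Over.comp_left, ← Over.comp_left]
    congr 3
    rw [reassoc_of% (psi_whiskerRight h.inv (𝟙 X)), Category.assoc]
    refine congrArg (fun m => (snd G X ≫ m).left.toHom) ?_
    apply CartesianMonoidalCategory.hom_ext <;> simp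
  · rintro z ⟨y, hy⟩
    set d := lift (𝟙 Y) (𝟙 Y)
    set q := φ ▷ X ≫ Y ◁ φ with hq
    obtain ⟨w, hw1, -⟩ := Scheme.Pullback.exists_preimage_pullback z y hy.symm
    let w₁ : pullback q.left d.left ⟶ (X ⊗ X).left := pullback.fst _ _
    have h1 : w₁ ≫ (fst X X).left ≫ φ.left = pullback.snd q.left d.left := by
      have := congrArg (fun m => m ≫ (fst Y Y).left) (pullback.condition (f := q.left) (g := d.left))
      simp only [Category.assoc, ← Over.comp_left, q, d, whiskerLeft_fst, whiskerRight_fst, lift_fst]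
        at this
      simp only [Over.comp_left, Over.id_left, Category.comp_id] at this
      exact this
    have h2 : w₁ ≫ (snd X X).left ≫ φ.left = pullback.snd q.left d.left := by
      have := congrArg (fun m => m ≫ (snd Y Y).left) (pullback.condition (f := q.left) (g := d.left))
      simp only [Category.assoc, ← Over.comp_left, q, d, whiskerLeft_snd, whiskerRight_snd_assoc,
        lift_snd] at this
      simp only [Over.comp_left, Over.id_left, Category.comp_id] at this
      exact this
    let η : pullback q.left d.left ⟶ pullback φ.left φ.left :=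
      pullback.lift (w₁ ≫ (fst X X).left) (w₁ ≫ (snd X X).left) (by
        rw [Category.assoc, Category.assoc, h1, h2])
    have : Surjective (GIT.PsiY a φ h.inv) := ⟨h.orbit⟩
    obtain ⟨v, hv⟩ := (pullback.snd (GIT.PsiY a φ h.inv) η).surjective w
    have key : pullback.fst (GIT.PsiY a φ h.inv) η ≫ (GIT.psi a (𝟙 X)).left =
        pullback.snd (GIT.PsiY a φ h.inv) η ≫ w₁ := by
      have hc := pullback.condition (f := GIT.PsiY a φ h.inv) (g := η)
      apply Over.tensorObj_ext
      · change (_ ≫ (GIT.psi a (𝟙 X)).left) ≫ (fst X X).left = (_ ≫ w₁) ≫ (fst X X).left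
        have := congrArg (fun m => m ≫ pullback.fst φ.left φ.left) hc
        rw [Category.assoc, ← Over.comp_left, GIT.psi, lift_fst, MonoidalCategory.whiskerLeft_id,
          Category.id_comp]
        simp only [Category.assoc, PsiY_fst, η, pullback.lift_fst] at this
        exact this
      · change (_ ≫ (GIT.psi a (𝟙 X)).left) ≫ (snd X X).left = (_ ≫ w₁) ≫ (snd X X).left
        have := congrArg (fun m => m ≫ pullback.snd φ.left φ.left) hc
        rw [Category.assoc, ← Over.comp_left, GIT.psi, lift_snd]
        simp only [Category.assoc, PsiY_snd, η, pullback.lift_snd] at this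
        exact this
    refine ⟨(pullback.fst (GIT.PsiY a φ h.inv) η).base v, ?_⟩
    rw [← Scheme.Hom.comp_apply, key, Scheme.Hom.comp_apply, hv]
    exact hw1

theorem isSeparated_iff_isClosed_range_psi (h : GIT.IsGeomQuot a φ) :
    IsSeparated Y.hom ↔ IsClosed (Set.range (GIT.psi a (𝟙 X)).left.base) := by
  have e : (lift (𝟙 Y) (𝟙 Y)).left = pullback.diagonal Y.hom := by
    apply Over.tensorObj_ext
    · change (lift (𝟙 Y) (𝟙 Y)).left ≫ (fst Y Y).left = _
      rw [← Over.comp_left, lift_fst]
      exact (pullback.diagonal_fst _).symm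
    · change (lift (𝟙 Y) (𝟙 Y)).left ≫ (snd Y Y).left = _
      rw [← Over.comp_left, lift_snd]
      exact (pullback.diagonal_snd _).symm
  rw [range_psi_id h, (isQuotientMap_tensor h.subm).isClosed_preimage, e, isSeparated_iff,
    IsClosedImmersion.iff_isPreimmersion]
  exact ⟨fun h => h.2, fun h => ⟨inferInstance, h⟩⟩

end Groth.Agent.GIT36.Quot
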