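import Groth.Agent.GIT36.Quot.Pts
import Groth.Agent.H98EqInt.DescendUniv
import Mathlib.CategoryTheory.Limits.Constructions.Over.Connected

/-!
Universal categorical quotients are surjective and have the sheaf of invariant functions.
-/

set_option autoImplicit false

universe u

open CategoryTheory Limits MonoidalCategory CartesianMonoidalCategory AlgebraicGeometry Topology
  TopologicalSpace

namespace Groth.Agent.GIT36.Quot

variable {S : Scheme.{u}} {G X Y : Over S} [GrpObj G] {a : AlgGrp.Action G X} {φ : X ⟶ Y}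

open H98EqInt

theorem surjective_of_isUnivCatQuot (h : GIT.IsUnivCatQuot a φ) :
    Function.Surjective φ.left.base := by
  intro y
  by_contra hy
  let Y' : Over S := Over.mk (Y.left.fromSpecResidueField y ≫ Y.hom)
  let g : Y' ⟶ Y := Over.homMk (Y.left.fromSpecResidueField y) rfl
  have hpb : IsPullback (pullback.fst φ g) (pullback.snd φ g) φ g := IsPullback.of_hasPullback φ g
  have hq := h.2 _ _ g trivial hpb _ (bcAction_act_fst h.1.1 hpb) (bcAction_invariant h.1.1 hpb)
  have : IsEmpty (pullback φ g).left := by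
    refine ⟨fun x => hy ⟨(pullback.fst φ g).left.base x, ?_⟩⟩
    rw [← Scheme.Hom.comp_apply, ← Over.comp_left, pullback.condition, Over.comp_left,
      Scheme.Hom.comp_apply]
    exact Scheme.fromSpecResidueField_apply y _
  let Z : Over S := Over.mk (coprod.desc Y'.hom Y'.hom : Y'.left ⨿ Y'.left ⟶ S)
  let i₁ : Y' ⟶ Z := Over.homMk coprod.inl (coprod.inl_desc _ _)
  let i₂ : Y' ⟶ Z := Over.homMk coprod.inr (coprod.inr_desc _ _)
  have he : pullback.snd φ g ≫ i₂ = pullback.snd φ g ≫ i₁ :=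
    Over.OverMorphism.ext (isInitialOfIsEmpty.hom_ext _ _)
  obtain ⟨χ, -, hu⟩ := hq.2 Z (pullback.snd φ g ≫ i₁) (by
    rw [GIT.IsInvariant, ← Category.assoc, hq.1, Category.assoc])
  have e : i₁ = i₂ := (hu i₁ rfl).trans (hu i₂ he).symm
  have e' : (coprod.inl : Y'.left ⟶ Y'.left ⨿ Y'.left) = coprod.inr := congrArg (·.left) e
  exact Set.disjoint_left.mp (isCompl_range_inl_inr Y'.left Y'.left).1
    ⟨IsLocalRing.closedPoint _, rfl⟩ ⟨IsLocalRing.closedPoint _, by rw [e']⟩

theorem appTop_topIso_inv {T X' : Scheme.{u}} (V : X'.Opens) (m : T ⟶ V.toScheme) (s : Γ(X', V))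
    (he : ⊤ ≤ (m ≫ V.ι) ⁻¹ᵁ V) :
    m.appTop (V.topIso.inv s) = (m ≫ V.ι).appLE V ⊤ he s := by
  rw [← CommRingCat.comp_apply]
  congr 2
  have : V.topIso.inv = V.ι.appLE V ⊤ (by simp) := by
    simp [Scheme.Opens.topIso]
    rfl
  have hle : (⊤ : T.Opens) ≤ m ⁻¹ᵁ (⊤ : V.toScheme.Opens) := fun _ _ => trivial
  have e' : m.appTop = m.appLE ⊤ ⊤ hle := Scheme.Hom.app_eq_appLE _
  rw [this, e']
  exact Scheme.Hom.appLE_comp_appLE m V.ι V ⊤ ⊤ _ _

theorem sections_of_isUnivCatQuot (h : GIT.IsUnivCatQuot a φ) (U : Y.left.Opens) :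
    Function.Injective (φ.left.app U) ∧
      Set.range (φ.left.app U) = {f | GIT.IsInvSection a φ U f} := by
  let Y' : Over S := Over.mk (U.ι ≫ Y.hom)
  let X' : Over S := Over.mk ((φ.left ⁻¹ᵁ U).ι ≫ X.hom)
  let g : Y' ⟶ Y := Over.homMk U.ι rfl
  let pr : X' ⟶ X := Over.homMk (φ.left ⁻¹ᵁ U).ι rfl
  let φ' : X' ⟶ Y' := Over.homMk (φ.left ∣_ U) (by
    change (φ.left ∣_ U) ≫ U.ι ≫ Y.hom = _
    rw [morphismRestrict_ι_assoc, Over.w φ]
    rfl)
  have hpb : IsPullback pr φ' φ g := by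
    refine IsPullback.of_map (Over.forget S) ?_ (isPullback_morphismRestrict φ.left U).flip
    exact Over.OverMorphism.ext (morphismRestrict_ι φ.left U).symm
  have heq := bcAction_act_fst h.1.1 hpb
  have hinv := bcAction_invariant h.1.1 hpb
  have hq := h.2 pr φ' g trivial hpb _ heq hinv
  let Z : Over S := Over.mk (prod.fst : S ⨯ Spec lineRing ⟶ S)
  let mkZ : ∀ {W : Over S}, Γ(W.left, ⊤) → (W ⟶ Z) := fun {W} s =>
    Over.homMk (prod.lift W.hom (toLine s)) (prod.lift_fst _ _)
  have mkZ_inj : ∀ {W : Over S}, Function.Injective (mkZ (W := W)) := by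
    intro W s t e
    refine toLine_injective ?_
    have := congrArg (fun m : W ⟶ Z => m.left ≫ prod.snd) e
    exact (prod.lift_snd _ _).symm.trans (this.trans (prod.lift_snd _ _))
  have comp_mkZ : ∀ {V W : Over S} (m : V ⟶ W) (s : Γ(W.left, ⊤)),
      m ≫ mkZ s = mkZ (m.left.appTop s) := by
    intro V W m s
    apply Over.OverMorphism.ext
    change m.left ≫ prod.lift W.hom (toLine s) = prod.lift V.hom (toLine (m.left.appTop s))
    rw [prod.comp_lift, Over.w m, comp_toLine]
  have hres : ∀ t : Γ(Y.left, U), φ'.left.appTop (U.topIso.inv t) =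
      (φ.left ⁻¹ᵁ U).topIso.inv (φ.left.app U t) := by
    intro t
    rw [← CommRingCat.comp_apply, ← CommRingCat.comp_apply]
    congr 2
    have e : (φ.left ∣_ U).appTop = U.topIso.hom ≫ φ.left.app U ≫ (φ.left ⁻¹ᵁ U).topIso.inv := by
      rw [← Scheme.Hom.resLE_eq_morphismRestrict, Scheme.Hom.app_eq_appLE]
      exact Scheme.Hom.resLE_app_top φ.left le_rfl
    change U.topIso.inv ≫ (φ.left ∣_ U).appTop = _
    rw [e, Iso.inv_hom_id_assoc]
  have hinjU : Function.Injective U.topIso.inv :=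
    (CategoryTheory.ConcreteCategory.bijective_of_isIso _).1
  have hinjX : Function.Injective (φ.left ⁻¹ᵁ U).topIso.inv :=
    (CategoryTheory.ConcreteCategory.bijective_of_isIso _).1
  refine ⟨fun t₁ t₂ ht => ?_, ?_⟩
  · obtain ⟨χ, -, hu⟩ := hq.2 Z (φ' ≫ mkZ (U.topIso.inv t₁)) (by
      rw [GIT.IsInvariant, ← Category.assoc, hinv, Category.assoc])
    refine hinjU (mkZ_inj ((hu (mkZ (U.topIso.inv t₁)) rfl).trans (hu (mkZ (U.topIso.inv t₂)) ?_).symm))
    change φ' ≫ mkZ (U.topIso.inv t₂) = φ' ≫ mkZ (U.topIso.inv t₁)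
    rw [comp_mkZ, comp_mkZ, hres, hres, ht]
  · ext s
    constructor
    · rintro ⟨t, rfl⟩
      exact isInvSection_app h.1.1 U t
    · intro hs
      obtain ⟨χ, hχ, -⟩ := hq.2 Z (mkZ ((φ.left ⁻¹ᵁ U).topIso.inv s)) (by
        rw [GIT.IsInvariant, comp_mkZ, comp_mkZ]
        congr 1
        have h₁ : (bcAction h.1.1 hpb).act.left ≫ (φ.left ⁻¹ᵁ U).ι =
            (G ◁ pr).left ≫ a.act.left := congrArg (·.left) heq
        have h₂ : (snd G X').left ≫ (φ.left ⁻¹ᵁ U).ι = (G ◁ pr).left ≫ (snd G X).left :=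
          (congrArg (·.left) (whiskerLeft_snd G pr)).symm
        have hle : ∀ (m : (G ⊗ X').left ⟶ (φ.left ⁻¹ᵁ U).toScheme),
            (⊤ : (G ⊗ X').left.Opens) ≤ (m ≫ (φ.left ⁻¹ᵁ U).ι) ⁻¹ᵁ (φ.left ⁻¹ᵁ U) :=
          fun m x _ => (m x).2
        refine (appTop_topIso_inv _ _ s (hle _)).trans ?_
        refine Eq.trans ?_ (appTop_topIso_inv _ _ s (hle _)).symm
        exact appLE_eq_of_invSection hs (G ◁ pr).left _ _ h₁.symm h₂.symm _ _)
      let X₀ := (Scheme.ΓSpecIso lineRing).inv (MvPolynomial.X PUnit.unit)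
      have e : φ'.left ≫ χ.left ≫ prod.snd =
          toLine ((φ.left ⁻¹ᵁ U).topIso.inv s : Γ(X'.left, ⊤)) := by
        have := congrArg (fun m : X' ⟶ Z => m.left ≫ prod.snd) hχ
        simp only [Over.comp_left, Category.assoc, mkZ] at this
        exact this.trans (prod.lift_snd _ _)
      have e' : φ'.left.appTop ((χ.left ≫ prod.snd).appTop X₀) =
          (φ.left ⁻¹ᵁ U).topIso.inv s := by
        rw [← CommRingCat.comp_apply (χ.left ≫ prod.snd).appTop, ← Scheme.Hom.comp_appTop, e]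
        exact toLine_appTop _
      refine ⟨U.topIso.hom ((χ.left ≫ prod.snd).appTop X₀), hinjX ?_⟩
      refine ((hres _).symm.trans ?_).trans e'
      rw [← CommRingCat.comp_apply U.topIso.hom, Iso.hom_inv_id]
      rfl

theorem isGeomQuot_univ_iff (h : GIT.IsUnivCatQuot a φ) :
    GIT.IsUnivGeomQuot a φ ↔
      GIT.IsUnivSubmersive φ.left ∧ Function.Surjective (GIT.PsiY a φ h.1.1).base := by
  refine ⟨fun hg => ⟨hg.1.subm, hg.1.orbit⟩, fun ⟨hsub, horb⟩ => ?_⟩
  refine ⟨⟨h.1.1, surjective_of_isUnivCatQuot h, horb, hsub, sections_of_isUnivCatQuot h⟩, ?_⟩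
  intro X' Y' pr φ' g _ hpb a' heq hinv
  have h' : GIT.IsUnivCatQuot a' φ' := by
    refine ⟨h.2 pr φ' g trivial hpb a' heq hinv, ?_⟩
    intro X'' Y'' pr' φ'' g' _ hpb' a'' heq' hinv'
    refine h.2 (pr' ≫ pr) φ'' (g' ≫ g) trivial (hpb'.paste_horiz hpb) a'' ?_ hinv'
    rw [reassoc_of% heq', heq, whiskerLeft_comp_assoc]
  have hpbL : IsPullback pr.left φ'.left φ.left g.left := hpb.map (Over.forget S)
  refine ⟨hinv, surjective_of_isUnivCatQuot h', ?_, ?_, sections_of_isUnivCatQuot h'⟩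
  · intro z
    let j : pullback φ'.left φ'.left ⟶ pullback φ.left φ.left :=
      pullback.map φ'.left φ'.left φ.left φ.left pr.left pr.left g.left hpbL.w.symm hpbL.w.symm
    have : Surjective (GIT.PsiY a φ h.1.1) := ⟨horb⟩
    obtain ⟨w, hw⟩ := (pullback.snd (GIT.PsiY a φ h.1.1) j).surjective z
    let p := pullback.fst (GIT.PsiY a φ h.1.1) j
    let x' := pullback.snd (GIT.PsiY a φ h.1.1) j ≫ pullback.snd φ'.left φ'.left
    have hc := pullback.condition (f := GIT.PsiY a φ h.1.1) (g := j)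
    have c1 := congrArg (fun m => m ≫ pullback.fst φ.left φ.left) hc
    have c2 := congrArg (fun m => m ≫ pullback.snd φ.left φ.left) hc
    simp only [Category.assoc, PsiY_fst, PsiY_snd, j, pullback.map, pullback.lift_fst,
      pullback.lift_snd] at c1 c2
    have hcond : (p ≫ (fst G X).left) ≫ G.hom = x' ≫ X'.hom := by
      rw [Category.assoc, Over.w (fst G X), ← Over.w (snd G X), ← Category.assoc]
      change ((pullback.fst (GIT.PsiY a φ h.1.1) j) ≫ (snd G X).left) ≫ X.hom = _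
      rw [c2, Category.assoc, Category.assoc, Over.w pr, Category.assoc]
    let v : pullback (GIT.PsiY a φ h.1.1) j ⟶ (G ⊗ X').left :=
      pullback.lift (p ≫ (fst G X).left) x' hcond
    have hv1 : v ≫ (fst G X').left = p ≫ (fst G X).left := pullback.lift_fst _ _ _
    have hv2 : v ≫ (snd G X').left = x' := pullback.lift_snd _ _ _
    have hvw : v ≫ (G ◁ pr).left = p := by
      apply Over.tensorObj_ext
      · change (v ≫ (G ◁ pr).left) ≫ (fst G X).left = p ≫ (fst G X).left
        rw [Category.assoc, ← Over.comp_left, whiskerLeft_fst, hv1]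
      · change (v ≫ (G ◁ pr).left) ≫ (snd G X).left = p ≫ (snd G X).left
        rw [Category.assoc, ← Over.comp_left, whiskerLeft_snd, Over.comp_left, reassoc_of% hv2]
        exact (Category.assoc _ _ _).trans c2.symm
    refine ⟨v.base w, ?_⟩
    rw [← hw, ← Scheme.Hom.comp_apply]
    refine congrArg (fun m : _ ⟶ pullback φ'.left φ'.left => m.base w) ?_
    apply pullback.hom_ext
    · apply hpbL.hom_ext
      · rw [Category.assoc, Category.assoc, PsiY_fst_assoc, ← Over.comp_left, heq, Over.comp_left,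
          reassoc_of% hvw]
        exact c1.trans (Category.assoc _ _ _).symm
      · rw [Category.assoc, Category.assoc, PsiY_fst_assoc, hinv.left, reassoc_of% hv2,
          Category.assoc, ← pullback.condition, Category.assoc]
    · rw [Category.assoc, PsiY_snd, hv2]
  · exact MorphismProperty.of_isPullback (P := MorphismProperty.universally _) hpbL hsub

end Groth.Agent.GIT36.Quot
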