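import Groth.Prelude.Def_W4bk4git07Quot
import Mathlib.AlgebraicGeometry.AffineScheme
import Mathlib.AlgebraicGeometry.Gluing
import Mathlib.AlgebraicGeometry.Restrict
import Mathlib.AlgebraicGeometry.PullbackCarrier

/-!
Criteria for categorical quotients: descent of invariant morphisms along a morphism with the
sheaf of invariant functions.
-/

set_option autoImplicit false

universe u

open CategoryTheory Limits MonoidalCategory CartesianMonoidalCategory AlgebraicGeometry Topology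
  TopologicalSpace

namespace Groth.Agent.GIT36.Quot

/-- A surjective morphism with injective maps on sections is an epimorphism. -/
theorem eq_of_comp_eq {X Y Z : Scheme.{u}} (f : X ⟶ Y) (hsurj : Function.Surjective f.base)
    (hinj : ∀ U : Y.Opens, Function.Injective (f.app U)) {g₁ g₂ : Y ⟶ Z} (e : f ≫ g₁ = f ≫ g₂) :
    g₁ = g₂ := by
  have hb : g₁.base = g₂.base := by
    ext y
    obtain ⟨x, rfl⟩ := hsurj y
    exact (Scheme.Hom.comp_apply f g₁ x).symm.trans
      ((congrArg (fun g : X ⟶ Z => g.base x) e).trans (Scheme.Hom.comp_apply f g₂ x))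
  refine Scheme.Hom.ext hb fun U => ?_
  ext s
  refine hinj _ ?_
  have h := ConcreteCategory.congr_hom (Scheme.Hom.congr_app e.symm U) s
  have hn := ConcreteCategory.congr_hom
    (Scheme.Hom.naturality f (eqToHom (show g₂ ⁻¹ᵁ U = g₁ ⁻¹ᵁ U by ext1; change g₂.base ⁻¹' U = g₁.base ⁻¹' U; rw [hb])).op)
    ((g₁.app U) s)
  simp only [Scheme.Hom.comp_app, CommRingCat.comp_apply, eqToHom_map] at h hn ⊢
  exact hn.trans h.symm

theorem restrict_app_injective {X Y : Scheme.{u}} (f : X ⟶ Y)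
    (hinj : ∀ U : Y.Opens, Function.Injective (f.app U)) (V : Y.Opens) (W : V.toScheme.Opens) :
    Function.Injective ((f ∣_ V).app W) := by
  rw [morphismRestrict_app]
  intro s t h
  exact hinj _ ((CategoryTheory.ConcreteCategory.bijective_of_isIso
    (X.presheaf.map (eqToHom (image_morphismRestrict_preimage f V W)).op)).1 h)

theorem restrict_surjective {X Y : Scheme.{u}} (f : X ⟶ Y) (hsurj : Function.Surjective f.base)
    (V : Y.Opens) : Function.Surjective (f ∣_ V).base := by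
  rintro ⟨y, hy⟩
  obtain ⟨x, rfl⟩ := hsurj y
  refine ⟨⟨x, hy⟩, Subtype.ext ?_⟩
  exact morphismRestrict_base_coe f V ⟨x, hy⟩

variable {S : Scheme.{u}} {G X Y : Over S} [GrpObj G] {a : AlgGrp.Action G X} {φ : X ⟶ Y}

theorem inv_preimage {Z : Over S} {ψ : X ⟶ Z} (h : GIT.IsInvariant a ψ) (W : Z.left.Opens) :
    a.act.left ⁻¹ᵁ (ψ.left ⁻¹ᵁ W) = (snd G X).left ⁻¹ᵁ (ψ.left ⁻¹ᵁ W) := by
  rw [← Scheme.Hom.comp_preimage, ← Scheme.Hom.comp_preimage, h.left]

theorem appLE_invSection {Z : Over S} {ψ : X ⟶ Z} (h : GIT.IsInvariant a ψ) (U : Y.left.Opens)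
    (W : Z.left.Opens) (e : φ.left ⁻¹ᵁ U ≤ ψ.left ⁻¹ᵁ W) (b : Γ(Z.left, W)) :
    GIT.IsInvSection a φ U (ψ.left.appLE W (φ.left ⁻¹ᵁ U) e b) := by
  rw [GIT.IsInvSection, ← CommRingCat.comp_apply, ← CommRingCat.comp_apply,
    Scheme.Hom.appLE_comp_appLE, Scheme.Hom.appLE_comp_appLE]
  simp only [h.left]

theorem exists_desc_affine (hii : ∀ U : Y.left.Opens,
      Function.Injective (φ.left.app U) ∧ Set.range (φ.left.app U) = {f | GIT.IsInvSection a φ U f})
    {Z : Over S} {ψ : X ⟶ Z} (hψ : GIT.IsInvariant a ψ) (V : Y.left.Opens) {W : Z.left.Opens}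
    (hW : IsAffineOpen W) (hle : φ.left ⁻¹ᵁ V ≤ ψ.left ⁻¹ᵁ W) :
    ∃ g : V.toScheme ⟶ Z.left, (φ.left ∣_ V) ≫ g = (φ.left ⁻¹ᵁ V).ι ≫ ψ.left := by
  have hr : ∀ b : Γ(Z.left, W), ∃ c : Γ(Y.left, V),
      (φ.left.app V).hom c = (ψ.left.appLE W (φ.left ⁻¹ᵁ V) hle).hom b := fun b => by
    have h : (ψ.left.appLE W (φ.left ⁻¹ᵁ V) hle) b ∈ Set.range (φ.left.app V) := by
      rw [(hii V).2]
      exact appLE_invSection hψ V W hle b
    exact h
  choose σ hσ using hr
  have hinj : Function.Injective (φ.left.app V).hom := (hii V).1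
  let ρ : Γ(Z.left, W) →+* Γ(Y.left, V) :=
    { toFun := σ
      map_one' := hinj (by rw [hσ, map_one, map_one])
      map_mul' := fun x y => hinj (by rw [map_mul, hσ, hσ, hσ, map_mul])
      map_zero' := hinj (by rw [hσ, map_zero, map_zero])
      map_add' := fun x y => hinj (by rw [map_add, hσ, hσ, hσ, map_add]) }
  have hρ : CommRingCat.ofHom ρ ≫ φ.left.app V = ψ.left.appLE W (φ.left ⁻¹ᵁ V) hle := by
    ext b
    exact hσ b
  refine ⟨V.toSpecΓ ≫ Spec.map (CommRingCat.ofHom ρ) ≫ hW.fromSpec, ?_⟩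
  rw [← Category.assoc, ← Scheme.Opens.toSpecΓ_naturality, Category.assoc, ← Category.assoc (Spec.map _),
    ← Spec.map_comp, hρ, ← Category.assoc, Scheme.Opens.toSpecΓ_SpecMap_appLE, Category.assoc,
    hW.toSpecΓ_fromSpec, Scheme.Hom.resLE_comp_ι]

/-- An invariant morphism with the sheaf of invariant functions is a categorical quotient as soon as
every cover of `X` by invariant opens is refined by preimages of opens of `Y`. -/
theorem isCatQuot_of_cover (hi : GIT.IsInvariant a φ) (hsurj : Function.Surjective φ.left.base)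
    (hii : ∀ U : Y.left.Opens,
      Function.Injective (φ.left.app U) ∧ Set.range (φ.left.app U) = {f | GIT.IsInvSection a φ U f})
    (hcov : ∀ (J : Type u) (O : J → X.left.Opens),
      (∀ i, a.act.left ⁻¹ᵁ O i = (snd G X).left ⁻¹ᵁ O i) → (∀ x, ∃ i, x ∈ O i) →
      ∀ y : Y.left, ∃ (i : J) (V : Y.left.Opens), y ∈ V ∧ φ.left ⁻¹ᵁ V ≤ O i) :
    GIT.IsCatQuot a φ := by
  refine ⟨hi, fun Z ψ hψ => ?_⟩
  have huniq : ∀ {T : Scheme.{u}} {g₁ g₂ : Y.left ⟶ T}, φ.left ≫ g₁ = φ.left ≫ g₂ → g₁ = g₂ :=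
    fun h => eq_of_comp_eq φ.left hsurj (fun U => (hii U).1) h
  obtain ⟨i, V, hyV, hle⟩ : ∃ (i : Y.left → Z.left.affineCover.I₀) (V : Y.left → Y.left.Opens),
      (∀ y, y ∈ V y) ∧
        ∀ y, φ.left ⁻¹ᵁ V y ≤ ψ.left ⁻¹ᵁ (Z.left.affineCover.f (i y)).opensRange := by
    have := hcov Z.left.affineCover.I₀
      (fun i => ψ.left ⁻¹ᵁ (Z.left.affineCover.f i).opensRange)
      (fun i => inv_preimage hψ _) fun x => by
        obtain ⟨i, z, hz⟩ := Z.left.affineCover.exists_eq (ψ.left.base x)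
        exact ⟨i, z, hz⟩
    choose i V h1 h2 using this
    exact ⟨i, V, h1, h2⟩
  have hg : ∀ y, ∃ g : (V y).toScheme ⟶ Z.left,
      (φ.left ∣_ V y) ≫ g = (φ.left ⁻¹ᵁ V y).ι ≫ ψ.left := fun y =>
    exists_desc_affine hii hψ (V y) (isAffineOpen_opensRange _) (hle y)
  choose g hg using hg
  let 𝒰 := Scheme.openCoverOfIsOpenCover Y.left V
    (IsOpenCover.mk (top_le_iff.mp fun y _ => Opens.mem_iSup.mpr ⟨y, hyV y⟩))
  have hres : ∀ (A : Y.left.Opens) (y : Y.left) (hA : A ≤ V y),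
      (φ.left ∣_ A) ≫ Y.left.homOfLE hA ≫ g y = (φ.left ⁻¹ᵁ A).ι ≫ ψ.left := by
    intro A y hA
    have e : (φ.left ∣_ A) ≫ Y.left.homOfLE hA =
        X.left.homOfLE (φ.left.preimage_mono hA) ≫ (φ.left ∣_ V y) := by
      simp [← cancel_mono (V y).ι, morphismRestrict_ι]
    rw [← Category.assoc, e, Category.assoc, hg, Scheme.homOfLE_ι_assoc]
  have hgg : ∀ y y', Y.left.homOfLE (inf_le_left : V y ⊓ V y' ≤ V y) ≫ g y =
      Y.left.homOfLE (inf_le_right : V y ⊓ V y' ≤ V y') ≫ g y' := fun y y' =>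
    eq_of_comp_eq (φ.left ∣_ (V y ⊓ V y')) (restrict_surjective _ hsurj _)
      (restrict_app_injective _ (fun U => (hii U).1) _) (by rw [hres, hres])
  have hc : ∀ (y y' : Y.left) {T : Scheme.{u}} (p : T ⟶ (V y).toScheme) (q : T ⟶ (V y').toScheme),
      p ≫ (V y).ι = q ≫ (V y').ι → p ≫ g y = q ≫ g y' := by
    intro y y' T p q hpq
    have hr : Set.range (p ≫ (V y).ι) ⊆ Set.range (V y ⊓ V y').ι := by
      rintro _ ⟨z, rfl⟩
      rw [Scheme.Opens.range_ι]
      refine ⟨(p z).2, ?_⟩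
      rw [hpq]
      exact (q z).2
    let m := IsOpenImmersion.lift (V y ⊓ V y').ι _ hr
    have hm : m ≫ (V y ⊓ V y').ι = p ≫ (V y).ι := IsOpenImmersion.lift_fac _ _ _
    have h1 : p = m ≫ Y.left.homOfLE inf_le_left := by
      rw [← cancel_mono (V y).ι, Category.assoc, Scheme.homOfLE_ι, hm]
    have h2 : q = m ≫ Y.left.homOfLE inf_le_right := by
      rw [← cancel_mono (V y').ι, Category.assoc, Scheme.homOfLE_ι, hm, hpq]
    rw [h1, h2, Category.assoc, Category.assoc, hgg]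
  let χ := 𝒰.glueMorphisms g fun y y' => hc _ _ _ _ (pullback.condition (f := 𝒰.f y) (g := 𝒰.f y'))
  have hχ : ∀ y, (V y).ι ≫ χ = g y := fun y => 𝒰.ι_glueMorphisms _ _ y
  have hφχ : φ.left ≫ χ = ψ.left := by
    refine Scheme.Cover.hom_ext (Scheme.openCoverOfIsOpenCover X.left (fun y => φ.left ⁻¹ᵁ V y)
      (IsOpenCover.mk (top_le_iff.mp fun x _ =>
        Opens.mem_iSup.mpr ⟨φ.left.base x, hyV (φ.left.base x)⟩))) _ _ fun y => ?_
    change (φ.left ⁻¹ᵁ V y).ι ≫ φ.left ≫ χ = (φ.left ⁻¹ᵁ V y).ι ≫ ψ.left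
    rw [← morphismRestrict_ι_assoc]
    exact (congrArg (fun k => (φ.left ∣_ V y) ≫ k) (hχ y)).trans (hg y)
  have hw : χ ≫ Z.hom = Y.hom := huniq (by rw [reassoc_of% hφχ, Over.w ψ, Over.w φ])
  refine ⟨Over.homMk χ hw, Over.OverMorphism.ext hφχ, fun χ' hχ' => ?_⟩
  refine Over.OverMorphism.ext (huniq ?_)
  change φ.left ≫ χ'.left = φ.left ≫ χ
  rw [hφχ, ← hχ']
  rfl

theorem saturated_of_orbit (hi : GIT.IsInvariant a φ)
    (horb : Function.Surjective (GIT.PsiY a φ hi).base) (O : X.left.Opens)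
    (hO : a.act.left ⁻¹ᵁ O = (snd G X).left ⁻¹ᵁ O) {x x' : X.left} (hx : x ∈ O)
    (he : φ.left.base x' = φ.left.base x) : x' ∈ O := by
  obtain ⟨z, hz1, hz2⟩ := Scheme.Pullback.exists_preimage_pullback x' x he
  obtain ⟨r, rfl⟩ := horb z
  rw [← Scheme.Hom.comp_apply, GIT.PsiY, pullback.lift_fst] at hz1
  rw [← Scheme.Hom.comp_apply, GIT.PsiY, pullback.lift_snd] at hz2
  subst hz1 hz2
  change r ∈ a.act.left ⁻¹ᵁ O
  rw [hO]
  exact hx

theorem isQuotientMap_of_univSubmersive {A B : Scheme.{u}} {f : A ⟶ B}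
    (h : GIT.IsUnivSubmersive f) : IsQuotientMap f.base :=
  h (𝟙 A) (𝟙 B) f IsPullback.of_id_snd

theorem isCatQuot_of_isGeomQuot (h : GIT.IsGeomQuot a φ) : GIT.IsCatQuot a φ := by
  refine isCatQuot_of_cover h.inv h.surj h.sections fun J O hO hcov y => ?_
  obtain ⟨x, rfl⟩ := h.surj y
  obtain ⟨i, hi⟩ := hcov x
  have hsat : φ.left.base ⁻¹' (φ.left.base '' (O i : Set X.left)) = O i := by
    refine Set.Subset.antisymm ?_ (Set.subset_preimage_image _ _)
    rintro x' ⟨x'', hx'', he⟩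
    exact saturated_of_orbit h.inv h.orbit (O i) (hO i) hx'' he.symm
  refine ⟨i, ⟨φ.left.base '' (O i : Set X.left), ?_⟩, ⟨x, hi, rfl⟩, fun x' hx' => ?_⟩
  · rw [← (isQuotientMap_of_univSubmersive h.subm).isOpen_preimage, hsat]
    exact (O i).2
  · exact hsat.le hx'

theorem surjective_of_isClosed_range (hcl : IsClosed (Set.range φ.left.base))
    (hinj : ∀ U : Y.left.Opens, Function.Injective (φ.left.app U)) :
    Function.Surjective φ.left.base := by
  intro y
  by_contra hy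
  let U : Y.left.Opens := ⟨(Set.range φ.left.base)ᶜ, hcl.isOpen_compl⟩
  have hy' : y ∈ U := fun ⟨x, hx⟩ => hy ⟨x, hx⟩
  have hbot : φ.left ⁻¹ᵁ U = ⊥ := by
    refine Opens.ext (Set.eq_empty_iff_forall_notMem.mpr fun x hx => hx ⟨x, rfl⟩)
  have : Subsingleton Γ(X.left, φ.left ⁻¹ᵁ U) := by
    rw [hbot]
    exact CommRingCat.subsingleton_of_isTerminal (X.left.sheaf.isTerminalOfEmpty)
  have h1 : (1 : Γ(Y.left, U)) = 0 := hinj U (Subsingleton.elim _ _)
  have h2 := congrArg (Y.left.presheaf.germ U y hy').hom h1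
  rw [map_one, map_zero] at h2
  exact one_ne_zero h2

theorem isCatQuot_of_closed_images (hi : GIT.IsInvariant a φ)
    (hii : ∀ U : Y.left.Opens,
      Function.Injective (φ.left.app U) ∧ Set.range (φ.left.app U) = {f | GIT.IsInvSection a φ U f})
    (hiii : ∀ W : Set X.left, IsClosed W → a.act.left.base '' ((snd G X).left.base ⁻¹' W) ⊆ W →
      IsClosed (φ.left.base '' W))
    (hiii' : ∀ (J : Type u) (W : J → Set X.left),
      (∀ i, IsClosed (W i) ∧ a.act.left.base '' ((snd G X).left.base ⁻¹' W i) ⊆ W i) →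
      φ.left.base '' (⋂ i, W i) = ⋂ i, φ.left.base '' W i) :
    GIT.IsCatQuot a φ ∧ IsQuotientMap φ.left.base := by
  have hsurj : Function.Surjective φ.left.base := by
    refine surjective_of_isClosed_range ?_ (fun U => (hii U).1)
    rw [← Set.image_univ]
    exact hiii _ isClosed_univ (Set.subset_univ _)
  refine ⟨isCatQuot_of_cover hi hsurj hii fun J O hO hcov y => ?_, ?_⟩
  · have hW : ∀ i, IsClosed (O i : Set X.left)ᶜ ∧
        a.act.left.base '' ((snd G X).left.base ⁻¹' (O i : Set X.left)ᶜ) ⊆ (O i : Set X.left)ᶜ := by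
      refine fun i => ⟨(O i).2.isClosed_compl, ?_⟩
      rintro _ ⟨r, hr, rfl⟩ h
      apply hr
      have h' : r ∈ a.act.left ⁻¹ᵁ O i := h
      rw [hO i] at h'
      exact h'
    have hy : y ∉ ⋂ i, φ.left.base '' (O i : Set X.left)ᶜ := by
      rw [← hiii' J _ hW]
      rintro ⟨x, hx, -⟩
      obtain ⟨i, hi⟩ := hcov x
      exact Set.mem_iInter.mp hx i hi
    obtain ⟨i, hi⟩ := not_forall.mp fun h => hy (Set.mem_iInter.mpr h)
    refine ⟨i, ⟨(φ.left.base '' (O i : Set X.left)ᶜ)ᶜ,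
      (hiii _ (hW i).1 (hW i).2).isOpen_compl⟩, hi, fun x hx => ?_⟩
    by_contra hx'
    exact hx ⟨x, hx', rfl⟩
  · rw [isQuotientMap_iff_isClosed]
    refine ⟨hsurj, fun C => ⟨fun h => h.preimage φ.left.base.hom.continuous, fun h => ?_⟩⟩
    have := hiii (φ.left.base ⁻¹' C) h ?_
    · rwa [Set.image_preimage_eq C hsurj] at this
    · rintro _ ⟨r, hr, rfl⟩
      change φ.left.base (a.act.left.base r) ∈ C
      rw [← Scheme.Hom.comp_apply, hi.left, Scheme.Hom.comp_apply]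
      exact hr

end Groth.Agent.GIT36.Quot
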