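import Groth.Prelude.Def_W4bk4git07Quot
import Groth.Agent.H98EqInt.Quot
import Groth.Agent.GIT36.Quot.Pts
import Groth.Agent.Grpd80.QuotSheaf
import Groth.Agent.SpPts86.CovSigma
import Groth.Agent.AlgGrp79.Act

/-!
An fppf quotient by a group action is a geometric quotient.
-/

set_option autoImplicit false
set_option backward.isDefEq.respectTransparency.types false

universe u

open CategoryTheory Limits MonoidalCategory CartesianMonoidalCategory MonObj AlgebraicGeometry Topology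
  Opposite

namespace Groth.Agent.GIT36.Quot

open H98EqInt

variable {S : Scheme.{u}} {G X Y : Over S} [GrpObj G] (a : AlgGrp.Action G X) {q : X ⟶ Y}

/-- Two points are related when one is a translate of the other. -/
def orbitSetoid (T : Over S) : Setoid (T ⟶ X) where
  r x x' := ∃ g : T ⟶ G, lift g x ≫ a.act = x'
  iseqv :=
    { refl := fun x => ⟨1, AlgGrp79.one_act' a x⟩
      symm := by rintro x x' ⟨g, rfl⟩; exact ⟨g⁻¹, AlgGrp79.inv_act_act a g x⟩
      trans := by
        rintro x x' x'' ⟨g, rfl⟩ ⟨g', rfl⟩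
        exact ⟨g' * g, AlgGrp79.mul_act' a g' g x⟩ }

/-- The presheaf of orbits. -/
noncomputable def orbitPresheaf : (Over S)ᵒᵖ ⥤ Type (u + 1) where
  obj T := ULift.{u + 1} (Quotient (orbitSetoid a T.unop))
  map {T T'} f := TypeCat.ofHom fun p => ULift.up (Quotient.map (fun x => f.unop ≫ x) (by
    rintro x x' ⟨g, rfl⟩
    exact ⟨f.unop ≫ g, (AlgGrp79.comp_lift_act a f.unop g x).symm⟩) p.down)
  map_id T := by
    ext ⟨p⟩
    induction p using Quotient.ind
    simp
  map_comp f g := by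
    ext ⟨p⟩
    induction p using Quotient.ind
    simp

/-- The projection to the presheaf of orbits. -/
noncomputable def orbitProj : yoneda.obj X ⋙ uliftFunctor.{u + 1, u} ⟶ orbitPresheaf a where
  app T := TypeCat.ofHom fun x => ULift.up (Quotient.mk (orbitSetoid a T.unop) x.down)
  naturality T T' f := by ext; rfl

/-- Points with the same image in a quotient sheaf are locally in the same orbit. -/
theorem locally_related (hq : QuotSh.IsQuotient Scheme.fppfPrecoverage a.act (snd G X) q)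
    {T : Over S} {x x' : T ⟶ X} (e : x ≫ q = x' ≫ q) :
    ∃ R ∈ AlgSp.J S T, ∀ ⦃V : Over S⦄ (f : V ⟶ T), R f →
      ∃ g : V ⟶ G, lift g (f ≫ x) ≫ a.act = f ≫ x' := by
  obtain ⟨w, hiso⟩ := hq
  let J := AlgSp.J S
  let h : ∀ V : Over S, (Over S)ᵒᵖ ⥤ Type (u + 1) := fun V => yoneda.obj V ⋙ uliftFunctor.{u + 1, u}
  let π := (presheafToSheaf J (Type (u + 1))).map (orbitProj a)
  have hπ : QuotSh.repMap Scheme.fppfPrecoverage a.act ≫ π =
      QuotSh.repMap Scheme.fppfPrecoverage (snd G X) ≫ π := by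
    rw [← Functor.map_comp, ← Functor.map_comp]
    congr 1
    ext V r
    refine congrArg ULift.up (Quotient.sound (s := orbitSetoid a V.unop) ((orbitSetoid a V.unop).symm' ⟨r.down ≫ fst G X, ?_⟩))
    change lift (r.down ≫ fst G X) (r.down ≫ snd G X) ≫ a.act = r.down ≫ a.act
    rw [← comp_lift, lift_fst_snd, Category.comp_id]
  let d := inv (QuotSh.quotDesc Scheme.fppfPrecoverage q w) ≫ coequalizer.desc π hπ
  have hd : QuotSh.repMap Scheme.fppfPrecoverage q ≫ d = π := by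
    have h1 : QuotSh.quotπ Scheme.fppfPrecoverage a.act (snd G X) ≫
        QuotSh.quotDesc Scheme.fppfPrecoverage q w = QuotSh.repMap Scheme.fppfPrecoverage q :=
      coequalizer.π_desc _ _
    rw [← h1, Category.assoc]
    simp only [d, IsIso.hom_inv_id_assoc]
    exact coequalizer.π_desc _ _
  have key : ∀ y : T ⟶ X, (toSheafify J (orbitPresheaf a)).app (op T) (ULift.up (Quotient.mk (orbitSetoid a T) y)) =
      d.hom.app (op T) ((toSheafify J (h Y)).app (op T) (ULift.up (y ≫ q))) := by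
    intro y
    have n1 := congrArg (fun m : h X ⟶ sheafify J (orbitPresheaf a) => m.app (op T) (ULift.up y))
      (toSheafify_naturality J (orbitProj a))
    have n2 := congrArg (fun m : h X ⟶ sheafify J (h Y) => m.app (op T) (ULift.up y))
      (toSheafify_naturality J (Functor.whiskerRight (yoneda.map q) uliftFunctor.{u + 1, u}))
    have n3 := congrArg (fun m => m.hom.app (op T) ((toSheafify J (h X)).app (op T) (ULift.up y))) hd
    exact n1.trans (n3.symm.trans (congrArg (fun z => d.hom.app (op T) z) n2.symm))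
  let p : (orbitPresheaf a).obj (op T) := ULift.up (Quotient.mk (orbitSetoid a T) x)
  let p' : (orbitPresheaf a).obj (op T) := ULift.up (Quotient.mk (orbitSetoid a T) x')
  have hpp : (toSheafify J (orbitPresheaf a)).app (op T) p = (toSheafify J (orbitPresheaf a)).app (op T) p' := by
    refine (key x).trans ((congrArg (fun m => d.hom.app (op T) ((toSheafify J (h Y)).app (op T) (ULift.up m))) e).trans (key x').symm)
  refine ⟨_, Presheaf.equalizerSieve_mem J (toSheafify J (orbitPresheaf a)) p p' hpp, ?_⟩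
  intro V f hf
  exact Quotient.exact (congrArg ULift.down hf)

theorem exists_mem_range_of_mem {T : Over S} {R : Sieve T} (hR : R ∈ AlgSp.J S T) (t : T.left) :
    ∃ (V : Over S) (f : V ⟶ T), R f ∧ t ∈ Set.range f.left.base := by
  rw [GrothendieckTopology.mem_over_iff] at hR
  have hle : Scheme.fppfPrecoverage.{u}.toGrothendieck ≤ Scheme.jointlySurjectiveTopology.{u} := by
    rw [Precoverage.toGrothendieck_le_iff_le_toPrecoverage]
    intro Z R' hR'
    rw [Scheme.fppfPrecoverage] at hR'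
    have h2 : R' ∈ Scheme.jointlySurjectivePrecoverage Z := hR'.1
    show Sieve.generate R' ∈ Scheme.jointlySurjectiveTopology Z
    rw [Scheme.mem_jointlySurjectiveTopology_iff_jointlySurjectivePretopology]
    intro z
    obtain ⟨W, u, hu, hz⟩ := h2 z
    exact ⟨W, u, Presieve.map_monotone (Sieve.le_generate R') _ _ hu, hz⟩
  obtain ⟨W, u, hu, hx⟩ := hle _ hR t
  obtain @⟨Z, g, hg⟩ := hu
  rw [Sieve.overEquiv_iff] at hg
  exact ⟨_, (Over.homMk g : Over.mk (g ≫ T.hom) ⟶ T), hg, hx⟩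

theorem hom_ext_of_mem {T : Over S} {R : Sieve T} (hR : R ∈ AlgSp.J S T) {P : Scheme.{u}}
    {g₁ g₂ : T.left ⟶ P}
    (h : ∀ ⦃V : Over S⦄ (f : V ⟶ T), R f → f.left ≫ g₁ = f.left ≫ g₂) : g₁ = g₂ := by
  rw [GrothendieckTopology.mem_over_iff] at hR
  refine ((GrothendieckTopology.Subcanonical.isSheaf_of_isRepresentable (J := Scheme.fppfTopology)
    (yoneda.obj P)) _ hR).isSeparatedFor.ext fun Z g hg => ?_
  rw [Sieve.overEquiv_iff] at hg
  exact h (Over.homMk g : Over.mk (g ≫ T.hom) ⟶ T) hg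

/-- An fppf quotient has a lift over an fppf cover of the target. -/
theorem exists_lift (hq : QuotSh.IsQuotient Scheme.fppfPrecoverage a.act (snd G X) q) :
    ∃ (W : Over S) (c : W ⟶ Y) (l : W ⟶ X), SpFP87.fppfSurj c.left ∧ l ≫ q = c := by
  obtain ⟨w, hiso⟩ := hq
  let iX := QuotSh.repIsoUliftYoneda Scheme.fppfPrecoverage X
  let iY := QuotSh.repIsoUliftYoneda Scheme.fppfPrecoverage Y
  have e : (AlgSp.yon S).map q = iX.inv ≫ (QuotSh.quotπ Scheme.fppfPrecoverage a.act (snd G X) ≫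
      QuotSh.quotDesc Scheme.fppfPrecoverage q w) ≫ iY.hom := by
    rw [Iso.eq_inv_comp, show QuotSh.quotπ Scheme.fppfPrecoverage a.act (snd G X) ≫
      QuotSh.quotDesc Scheme.fppfPrecoverage q w = _ from coequalizer.π_desc _ _]
    exact (Grpd80.repMap_comp_iso q).symm
  have : Epi (QuotSh.quotπ Scheme.fppfPrecoverage a.act (snd G X)) := coequalizer.π_epi
  have : Epi ((AlgSp.yon S).map q) := by rw [e]; infer_instance
  obtain ⟨W, c, l, hc, hl⟩ := SpPts86.locLift_of_epi (b := (AlgSp.yon S).map q) Y (𝟙 _)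
  obtain ⟨l, rfl⟩ := (AlgSp.yon S).map_surjective l
  refine ⟨W, c, l, hc, (AlgSp.yon S).map_injective ?_⟩
  rw [Functor.map_comp, hl, Category.comp_id]

theorem exists_app_eq_of_effectiveEpi {A B : Scheme.{u}} (f : A ⟶ B) (U : B.Opens)
    [EffectiveEpi (f ∣_ U)] (s : Γ(A, f ⁻¹ᵁ U))
    (h : ∀ {T : Scheme.{u}} (α β : T ⟶ A), α ≫ f = β ≫ f → ∀ (ha : ⊤ ≤ α ⁻¹ᵁ (f ⁻¹ᵁ U))
      (hb : ⊤ ≤ β ⁻¹ᵁ (f ⁻¹ᵁ U)), α.appLE _ ⊤ ha s = β.appLE _ ⊤ hb s) :
    ∃ t : Γ(B, U), f.app U t = s := by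
  obtain ⟨t', ht'⟩ := exists_appTop_eq (f ∣_ U) ((f ⁻¹ᵁ U).topIso.inv s) (by
    rw [← opens_ι_appLE, ← CommRingCat.comp_apply, ← CommRingCat.comp_apply, appTop_eq_appLE,
      appTop_eq_appLE,
      Scheme.Hom.appLE_comp_appLE, Scheme.Hom.appLE_comp_appLE]
    refine h _ _ ?_ _ _
    simp only [Category.assoc, ← morphismRestrict_ι, pullback.condition_assoc])
  refine ⟨U.topIso.hom t', ?_⟩
  apply (f ⁻¹ᵁ U).topIso.commRingCatIsoToRingEquiv.symm.injective
  show (f ⁻¹ᵁ U).topIso.inv (f.app U (U.topIso.hom t')) = (f ⁻¹ᵁ U).topIso.inv s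
  rw [← ht', ← CommRingCat.comp_apply (f.app U), ← morphismRestrict_appTop_topIso,
    CommRingCat.comp_apply, ← CommRingCat.comp_apply U.topIso.hom, Iso.hom_inv_id]
  simp

theorem toLine_appLE {T X' : Scheme.{u}} (p : T ⟶ X') {V : X'.Opens} (hp : ⊤ ≤ p ⁻¹ᵁ V)
    (s : Γ(X', V)) {T' : Scheme.{u}} (f : T' ⟶ T) (hfp : ⊤ ≤ (f ≫ p) ⁻¹ᵁ V) :
    f ≫ toLine (p.appLE V ⊤ hp s) = toLine ((f ≫ p).appLE V ⊤ hfp s) := by
  rw [comp_toLine, appTop_eq_appLE, ← CommRingCat.comp_apply, Scheme.Hom.appLE_comp_appLE]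

theorem sections_of_isQuotient (hq : QuotSh.IsQuotient Scheme.fppfPrecoverage a.act (snd G X) q)
    (hinv : GIT.IsInvariant a q) (U : Y.left.Opens) :
    Function.Injective (q.left.app U) ∧ Set.range (q.left.app U) = {f | GIT.IsInvSection a q U f} := by
  obtain ⟨W, c, l, hc, hl⟩ := exists_lift a hq
  obtain ⟨h1, h2, h3⟩ := (SpFP87.fppfSurj_iff _).mp hc
  have : Flat (c.left ∣_ U) := IsZariskiLocalAtTarget.restrict h2 U
  have : Surjective (c.left ∣_ U) := IsZariskiLocalAtTarget.restrict h1 U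
  have : LocallyOfFinitePresentation (c.left ∣_ U) := IsZariskiLocalAtTarget.restrict h3 U
  have hcl : c.left = l.left ≫ q.left := by rw [← hl]; rfl
  have hle : c.left ⁻¹ᵁ U ≤ l.left ⁻¹ᵁ (q.left ⁻¹ᵁ U) := by
    rw [hcl]; exact le_rfl
  have happ : ∀ t, c.left.app U t = l.left.appLE _ _ hle (q.left.app U t) := by
    intro t
    rw [← CommRingCat.comp_apply, Scheme.Hom.app_eq_appLE, Scheme.Hom.app_eq_appLE,
      Scheme.Hom.appLE_comp_appLE]
    simp only [hcl]
  refine ⟨fun t₁ t₂ e => app_injective_of_epi_restrict c.left U (by rw [happ, happ, e]), ?_⟩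
  ext s
  constructor
  · rintro ⟨t, rfl⟩
    exact isInvSection_app hinv U t
  intro hs
  have agree : ∀ {T : Over S} (x x' : T ⟶ X), x ≫ q = x' ≫ q →
      ∀ (hx : ⊤ ≤ x.left ⁻¹ᵁ (q.left ⁻¹ᵁ U)) (hx' : ⊤ ≤ x'.left ⁻¹ᵁ (q.left ⁻¹ᵁ U)),
      x.left.appLE _ ⊤ hx s = x'.left.appLE _ ⊤ hx' s := by
    intro T x x' e hx hx'
    obtain ⟨R, hR, hRg⟩ := locally_related a hq e
    refine toLine_injective (hom_ext_of_mem hR fun V f hf => ?_)
    obtain ⟨g, hg⟩ := hRg f hf
    have hfx : (⊤ : V.left.Opens) ≤ (f.left ≫ x.left) ⁻¹ᵁ (q.left ⁻¹ᵁ U) :=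
      fun z _ => hx (x := f.left z) trivial
    have hfx' : (⊤ : V.left.Opens) ≤ (f.left ≫ x'.left) ⁻¹ᵁ (q.left ⁻¹ᵁ U) :=
      fun z _ => hx' (x := f.left z) trivial
    rw [toLine_appLE _ _ _ _ hfx, toLine_appLE _ _ _ _ hfx']
    refine congrArg toLine (Eq.symm ?_)
    refine appLE_eq_of_invSection hs (lift g (f ≫ x)).left _ _ ?_ ?_ hfx' hfx
    · rw [← Over.comp_left, hg, Over.comp_left]
    · rw [← Over.comp_left, lift_snd, Over.comp_left]
  obtain ⟨t, ht⟩ := exists_app_eq_of_effectiveEpi c.left U (l.left.appLE _ _ hle s)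
    fun {T} α β e ha hb => by
      let T' : Over S := Over.mk (α ≫ W.hom)
      let α' : T' ⟶ W := Over.homMk α rfl
      let β' : T' ⟶ W := Over.homMk β (by
        change β ≫ W.hom = α ≫ W.hom
        rw [← Over.w c, reassoc_of% e])
      rw [← CommRingCat.comp_apply, ← CommRingCat.comp_apply, Scheme.Hom.appLE_comp_appLE,
        Scheme.Hom.appLE_comp_appLE]
      refine agree (α' ≫ l) (β' ≫ l) ?_ _ _
      rw [Category.assoc, Category.assoc, hl]
      exact Over.OverMorphism.ext e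
  refine ⟨t, ?_⟩
  have agree' : ∀ {T : Over S} (x x' : T ⟶ X), x ≫ q = x' ≫ q → ∀ (Ω : T.left.Opens)
      (hx : Ω ≤ x.left ⁻¹ᵁ (q.left ⁻¹ᵁ U)) (hx' : Ω ≤ x'.left ⁻¹ᵁ (q.left ⁻¹ᵁ U)),
      x.left.appLE _ Ω hx s = x'.left.appLE _ Ω hx' s := by
    intro T x x' e Ω hx hx'
    let j : Over.mk (Ω.ι ≫ T.hom) ⟶ T := Over.homMk Ω.ι rfl
    have := agree (j ≫ x) (j ≫ x') (by rw [Category.assoc, e, Category.assoc])
      (fun z _ => hx (x := Ω.ι z) z.2) (fun z _ => hx' (x := Ω.ι z) z.2)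
    refine Ω.topIso.commRingCatIsoToRingEquiv.symm.injective ?_
    change Ω.topIso.inv (x.left.appLE _ Ω hx s) = Ω.topIso.inv (x'.left.appLE _ Ω hx' s)
    rw [← opens_ι_appLE, ← CommRingCat.comp_apply, ← CommRingCat.comp_apply,
      Scheme.Hom.appLE_comp_appLE, Scheme.Hom.appLE_comp_appLE]
    exact this
  let T : Over S := Over.mk (pullback.fst q.left c.left ≫ X.hom)
  let x : T ⟶ X := Over.homMk (pullback.fst q.left c.left) rfl
  let y : T ⟶ W := Over.homMk (pullback.snd q.left c.left) (by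
    change pullback.snd q.left c.left ≫ W.hom = pullback.fst q.left c.left ≫ X.hom
    rw [← Over.w c, ← Over.w q, pullback.condition_assoc])
  have hxy : x ≫ q = (y ≫ l) ≫ q := by
    rw [Category.assoc, hl]
    exact Over.OverMorphism.ext pullback.condition
  have hx3 : SpFP87.fppfSurj (pullback.fst q.left c.left) :=
    MorphismProperty.of_isPullback (P := SpFP87.fppfSurj)
      (IsPullback.of_hasPullback q.left c.left).flip hc
  obtain ⟨g1, g2, g3⟩ := (SpFP87.fppfSurj_iff _).mp hx3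
  have : Flat (x.left ∣_ (q.left ⁻¹ᵁ U)) := IsZariskiLocalAtTarget.restrict g2 _
  have : Surjective (x.left ∣_ (q.left ⁻¹ᵁ U)) := IsZariskiLocalAtTarget.restrict g1 _
  have : LocallyOfFinitePresentation (x.left ∣_ (q.left ⁻¹ᵁ U)) := IsZariskiLocalAtTarget.restrict g3 _
  refine app_injective_of_epi_restrict x.left (q.left ⁻¹ᵁ U) ?_
  have hΩ : x.left ⁻¹ᵁ (q.left ⁻¹ᵁ U) ≤ (y ≫ l).left ⁻¹ᵁ (q.left ⁻¹ᵁ U) := by
    rw [← Scheme.Hom.comp_preimage, ← Scheme.Hom.comp_preimage, ← Over.comp_left, hxy]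
    exact le_rfl
  have hΩ' : x.left ⁻¹ᵁ (q.left ⁻¹ᵁ U) ≤ y.left ⁻¹ᵁ (c.left ⁻¹ᵁ U) := by
    rw [hcl]; exact hΩ
  have hxyL : x.left ≫ q.left = y.left ≫ c.left := pullback.condition
  rw [Scheme.Hom.app_eq_appLE x.left, agree' x (y ≫ l) hxy _ le_rfl hΩ,
    Scheme.Hom.app_eq_appLE q.left, ← CommRingCat.comp_apply, Scheme.Hom.appLE_comp_appLE]
  have e2 : (y ≫ l).left.appLE _ _ hΩ s = y.left.appLE (c.left ⁻¹ᵁ U) _ hΩ' (c.left.app U t) := by
    rw [ht, ← CommRingCat.comp_apply, Scheme.Hom.appLE_comp_appLE]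
    rfl
  rw [e2, Scheme.Hom.app_eq_appLE, ← CommRingCat.comp_apply, Scheme.Hom.appLE_comp_appLE]
  simp only [hxyL]

theorem orbit_of_isQuotient (hq : QuotSh.IsQuotient Scheme.fppfPrecoverage a.act (snd G X) q)
    (hinv : GIT.IsInvariant a q) : Function.Surjective (GIT.PsiY a q hinv).base := by
  intro z
  let T : Over S := Over.mk (pullback.fst q.left q.left ≫ X.hom)
  let x' : T ⟶ X := Over.homMk (pullback.fst q.left q.left) rfl
  let x : T ⟶ X := Over.homMk (pullback.snd q.left q.left) (by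
    change pullback.snd q.left q.left ≫ X.hom = pullback.fst q.left q.left ≫ X.hom
    rw [← Over.w q, pullback.condition_assoc])
  have e : x ≫ q = x' ≫ q := Over.OverMorphism.ext pullback.condition.symm
  obtain ⟨R, hR, hRg⟩ := locally_related a hq e
  obtain ⟨V, f, hf, v, hv⟩ := exists_mem_range_of_mem hR z
  obtain ⟨g, hg⟩ := hRg f hf
  have : (lift g (f ≫ x)).left ≫ GIT.PsiY a q hinv = f.left := by
    apply pullback.hom_ext
    · rw [Category.assoc, PsiY_fst, ← Over.comp_left, hg]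
      rfl
    · rw [Category.assoc, PsiY_snd, ← Over.comp_left, lift_snd]
      rfl
  refine ⟨(lift g (f ≫ x)).left.base v, ?_⟩
  rw [← Scheme.Hom.comp_apply, this]
  exact hv

theorem subm_of_isQuotient (hq : QuotSh.IsQuotient Scheme.fppfPrecoverage a.act (snd G X) q) :
    GIT.IsUnivSubmersive q.left := by
  intro X' Y' i₁ i₂ f' H
  obtain ⟨W, c, l, hc, hl⟩ := exists_lift a hq
  have hc' : SpFP87.fppfSurj (pullback.snd c.left i₂) :=
    MorphismProperty.of_isPullback (P := SpFP87.fppfSurj) (IsPullback.of_hasPullback c.left i₂) hc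
  obtain ⟨h1, h2, h3⟩ := (SpFP87.fppfSurj_iff _).mp hc'
  have hopen : IsQuotientMap (pullback.snd c.left i₂).base :=
    IsOpenMap.isQuotientMap (pullback.snd c.left i₂).isOpenMap
      (pullback.snd c.left i₂).continuous (pullback.snd c.left i₂).surjective
  have hl' : (l.left ≫ q.left) = c.left := by rw [← hl]; rfl
  let hh := H.lift (pullback.snd c.left i₂) (pullback.fst c.left i₂ ≫ l.left) (by
    rw [Category.assoc, hl', pullback.condition])
  have hfac : hh ≫ f' = pullback.snd c.left i₂ := H.lift_fst _ _ _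
  rw [← hfac, Scheme.Hom.comp_base, TopCat.coe_comp] at hopen
  exact Topology.IsQuotientMap.of_comp hh.continuous f'.continuous hopen

theorem isGeomQuot_of_isQuotient (hq : QuotSh.IsQuotient Scheme.fppfPrecoverage a.act (snd G X) q) :
    GIT.IsGeomQuot a q where
  inv := hq.choose
  surj := (isQuotientMap_of_univSubmersive (subm_of_isQuotient a hq)).surjective
  orbit := orbit_of_isQuotient a hq hq.choose
  subm := subm_of_isQuotient a hq
  sections := sections_of_isQuotient a hq hq.choose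

end Groth.Agent.GIT36.Quot
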