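import Groth.Agent.H98EqInt.Quot
import Groth.Agent.Sga84.TorsorDesc

/-!
Torsors over a scheme, presented by a cartesian action square and fpqc local sections.
-/

set_option autoImplicit false
set_option backward.isDefEq.respectTransparency.types false

universe u

open CategoryTheory Limits MorphismProperty MonoidalCategory CartesianMonoidalCategory AlgebraicGeometry

namespace Groth.Agent.GIT36.Quot

set_option backward.isDefEq.respectTransparency.types false in
/-- A property descending along fpqc covers holds for an fpqc-locally split morphism as soon as it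
holds for the second projection of its kernel pair. -/
theorem prop_of_kernelPair (P : MorphismProperty Scheme.{u}) [P.IsStableUnderBaseChange]
    [IsZariskiLocalAtTarget P] [P.DescendsAlong Unr55.fpqc.{u}] {X Y : Scheme.{u}} (f : X ⟶ Y)
    (h1 : P (pullback.snd f f))
    (hloc : NonAbH1.IsLocallyTrivialFor Scheme.fpqcPrecoverage (Over.mk f)) : P f := by
  rw [IsZariskiLocalAtTarget.iff_of_openCover (P := P) Y.affineCover]
  intro i
  obtain ⟨W, -, w, hw, s, hs⟩ := Sga84.exists_affine_section hloc
    (U := (Y.affineCover.f i).opensRange) (isAffineOpen_opensRange _)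
  let e := (Y.affineCover.f i).isoOpensRange
  have hw' : Unr55.fpqc (w ≫ e.inv) := (Unr55.fpqc.cancel_right_of_respectsIso w e.inv).mpr hw
  refine MorphismProperty.of_pullback_fst_of_descendsAlong (P := P) (Q := Unr55.fpqc.{u}) hw' ?_
  rw [← pullbackSymmetry_hom_comp_snd, P.cancel_left_of_respectsIso]
  change P (pullback.snd (pullback.snd f (Y.affineCover.f i)) (w ≫ e.inv))
  rw [← P.cancel_left_of_respectsIso
      (pullbackLeftPullbackSndIso f (Y.affineCover.f i) (w ≫ e.inv)).inv,
    pullbackLeftPullbackSndIso_inv_snd_snd]
  have hf : (w ≫ e.inv) ≫ Y.affineCover.f i = s ≫ f := by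
    rw [Category.assoc]
    exact (congrArg (fun m => w ≫ m) (by simp [e])).trans hs.symm
  suffices key : ∀ g : W ⟶ Y, g = s ≫ f → P (pullback.snd f g) from key _ hf
  rintro _ rfl
  rw [← P.cancel_left_of_respectsIso (pullbackLeftPullbackSndIso f f s).hom,
    pullbackLeftPullbackSndIso_hom_snd]
  exact MorphismProperty.pullback_snd (P := P) _ _ h1

variable {S : Scheme.{u}} {G X Y : Over S} [GrpObj G] {a : AlgGrp.Action G X} {φ : X ⟶ Y}

theorem prop_of_torsor (P : MorphismProperty Scheme.{u}) [P.IsStableUnderBaseChange]
    [IsZariskiLocalAtTarget P] [P.DescendsAlong Unr55.fpqc.{u}] (hG : P G.hom)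
    (hcart : IsPullback a.act (snd G X) φ φ)
    (hloc : NonAbH1.IsLocallyTrivialFor Scheme.fpqcPrecoverage (Over.mk φ.left : Over Y.left)) :
    P φ.left := by
  have h : IsPullback a.act.left (snd G X).left φ.left φ.left := hcart.map (Over.forget S)
  refine prop_of_kernelPair P φ.left ?_ hloc
  rw [← P.cancel_left_of_respectsIso h.isoPullback.hom, IsPullback.isoPullback_hom_snd]
  exact MorphismProperty.pullback_snd (P := P) G.hom X.hom hG

theorem isIso_PsiY_of_cart (hcart : IsPullback a.act (snd G X) φ φ) :
    IsIso (GIT.PsiY a φ hcart.w) := by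
  have h : IsPullback a.act.left (snd G X).left φ.left φ.left := hcart.map (Over.forget S)
  have e : GIT.PsiY a φ hcart.w = h.isoPullback.hom := by
    apply pullback.hom_ext
    · exact (pullback.lift_fst _ _ _).trans (IsPullback.isoPullback_hom_fst h).symm
    · exact (pullback.lift_snd _ _ _).trans (IsPullback.isoPullback_hom_snd h).symm
  rw [e]
  infer_instance

theorem isAffineHom_and_isGeomQuot_of_torsor [IsAffineHom G.hom] [Flat G.hom]
    (hcart : IsPullback a.act (snd G X) φ φ)
    (hloc : NonAbH1.IsLocallyTrivialFor Scheme.fpqcPrecoverage (Over.mk φ.left : Over Y.left)) :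
    IsAffineHom φ.left ∧ GIT.IsGeomQuot a φ := by
  have := Unr55.isAffineHom.{u}
  have := Sga84.flat_descendsAlong.{u}
  have : IsAffineHom φ.left := prop_of_torsor @IsAffineHom inferInstance hcart hloc
  have : Flat φ.left := prop_of_torsor @Flat inferInstance hcart hloc
  have : Surjective φ.left := Sga84.surjective_of_isLocallyTrivialFor hloc
  exact ⟨inferInstance, H98EqInt.isGeomQuot_of_principalBundle hcart.w (isIso_PsiY_of_cart hcart)⟩

end Groth.Agent.GIT36.Quot
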